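import Groth.Agent.FlatLib.FibreFlatScheme
import Groth.Agent.FlatLib.FlatLocusScheme
import Groth.Agent.AlgSpLib.ReducedSmooth
import Mathlib.AlgebraicGeometry.Group.Smooth

/-!
# Flatness of homomorphisms of group schemes
-/

set_option autoImplicit false

universe u

open CategoryTheory CategoryTheory.Limits AlgebraicGeometry MonoidalCategory CartesianMonoidalCategory
open scoped MonObj

namespace AbSchLib

/-- Translation invariance: a homomorphism into a reduced group is flat as soon as its image
meets a generic point. -/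
theorem flat_of_algClosed {K : Type u} [Field K] [IsAlgClosed K] (X Y : Over (Spec (CommRingCat.of K)))
    [GrpObj X] [GrpObj Y] [LocallyOfFiniteType X.hom] [LocallyOfFiniteType Y.hom]
    [AlgebraicGeometry.IsReduced Y.left] (f : X ⟶ Y) [IsMonHom f]
    (hgen : ∃ x : X.left, closure {f.left.base x} ∈ irreducibleComponents Y.left) : Flat f.left := by
  haveI : LocallyOfFiniteType (f.left ≫ Y.hom) := by rw [Over.w]; infer_instance
  haveI : LocallyOfFiniteType f.left := locallyOfFiniteType_of_comp f.left Y.hom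
  haveI : IsLocallyNoetherian Y.left := LocallyOfFiniteType.isLocallyNoetherian Y.hom
  haveI : LocallyOfFinitePresentation f.left := inferInstance
  haveI : JacobsonSpace X.left := LocallyOfFiniteType.jacobsonSpace X.hom
  let O : Set X.left := {x | (f.left.stalkMap x).hom.Flat}
  have hO : IsOpen O := FlatLib.isOpen_setOf_flat_stalkMap f.left
  obtain ⟨x₁, hx₁⟩ := hgen
  have hx₁O : x₁ ∈ O := by
    have hF := isField_stalk_of_closure_mem_irreducibleComponents Y.left (f.left.base x₁) hx₁
    letI := hF.toField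
    letI : Algebra (Y.left.presheaf.stalk (f.left.base x₁)) (X.left.presheaf.stalk x₁) :=
      (f.left.stalkMap x₁).hom.toAlgebra
    exact RingHom.flat_algebraMap_iff.mpr inferInstance
  obtain ⟨x₀, hx₀, hx₀c⟩ := nonempty_inter_closedPoints ⟨x₁, hx₁O⟩ hO.isLocallyClosed
  have hall : ∀ x : X.left, IsClosed ({x} : Set X.left) → x ∈ O := by
    intro x hxc
    let a₀ : 𝟙_ (Over (Spec (CommRingCat.of K))) ⟶ X :=
      Over.homMk _ ((pointEquivClosedPoint X.hom).symm ⟨x₀, hx₀c⟩).2
    let a₁ : 𝟙_ (Over (Spec (CommRingCat.of K))) ⟶ X :=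
      Over.homMk _ ((pointEquivClosedPoint X.hom).symm ⟨x, hxc⟩).2
    let a := a₀⁻¹ * a₁
    let R := lift (𝟙 X) (toUnit X ≫ a) ≫ μ[X]
    haveI : IsIso R := inferInstanceAs (IsIso (GrpObj.mulRight a).hom)
    have hR : a₀ ≫ R = a₁ := by
      simp only [R, comp_lift_assoc, Category.comp_id]
      rw [← Category.assoc a₀, toUnit_unique (a₀ ≫ toUnit X) (𝟙 _), Category.id_comp, ← Hom.mul_def]
      simp [a]
    let R' := lift (𝟙 Y) (toUnit Y ≫ a ≫ f) ≫ μ[Y]
    haveI : IsIso R' := inferInstanceAs (IsIso (GrpObj.mulRight (a ≫ f)).hom)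
    have hcomm : R ≫ f = f ≫ R' := by
      simp only [R, R', Category.assoc, IsMonHom.mul_hom, comp_lift_assoc]
      rw [← Category.assoc (lift _ _), lift_map]
      congr 2
      · simp only [← Category.assoc]
        congr 2
        exact toUnit_unique _ _
    haveI : IsIso R.left := inferInstanceAs (IsIso ((Over.forget _).map R))
    haveI : IsIso R'.left := inferInstanceAs (IsIso ((Over.forget _).map R'))
    have h1 : FlatLib.FlatAt (f.left ≫ R'.left) x₀ := FlatLib.flatAt_comp hx₀ (FlatLib.flatAt_of_flat R'.left _)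
    rw [FlatLib.flatAt_congr (show f.left ≫ R'.left = R.left ≫ f.left from (congrArg Over.Hom.left hcomm).symm)] at h1
    have h2 := FlatLib.flatAt_of_comp (FlatLib.flatAt_of_flat R.left x₀) h1
    have hx : R.left.base x₀ = x := by
      have := congrArg (fun m : (𝟙_ (Over (Spec (CommRingCat.of K)))).left ⟶ X.left =>
        m.base (IsLocalRing.closedPoint K)) (congrArg Over.Hom.left hR)
      simpa [a₀, a₁] using this
    rw [hx] at h2
    exact h2
  rw [Flat.iff_flat_stalkMap]
  intro x
  by_contra hne
  obtain ⟨z, hz, hzc⟩ := nonempty_inter_closedPoints (Z := Oᶜ) ⟨x, hne⟩ hO.isClosed_compl.isLocallyClosed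
  exact hz (hall z hzc)

/-- Flatness descends along a flat surjection. -/
theorem flat_of_square {A A' B B' : Scheme.{u}} {k : A' ⟶ A} {f' : A' ⟶ B'} {f : A ⟶ B} {l : B' ⟶ B}
    (w : k ≫ f = f' ≫ l) [Flat k] [Surjective k] [Flat l] [Flat f'] : Flat f := by
  haveI : Flat (k ≫ f) := w ▸ inferInstance
  exact FlatLib.flat_of_flat_surjective_comp k f

theorem isMonHom_pullback_map {S T : Scheme.{u}} (ξ : T ⟶ S) {X Y : Over S} [GrpObj X] [GrpObj Y]
    (f : X ⟶ Y) [IsMonHom f] :
    letI : GrpObj ((Over.pullback ξ).obj X) := Functor.grpObjObj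
    letI : GrpObj ((Over.pullback ξ).obj Y) := Functor.grpObjObj
    IsMonHom ((Over.pullback ξ).map f) :=
  @Functor.map.instIsMonHom _ _ _ _ _ _ (Over.pullback ξ) _ _ _ _ _ f _

/-- A homomorphism is flat as soon as it is so on geometric fibres. -/
theorem flat_of_geometric_fibres {S : Scheme.{u}} {X Y : Over S} (f : X ⟶ Y) [Flat X.hom]
    [LocallyOfFinitePresentation X.hom] [LocallyOfFiniteType Y.hom]
    (h : ∀ (K : Type u) [Field K] [IsAlgClosed K] (ξ : Spec (CommRingCat.of K) ⟶ S),
      Flat ((Over.pullback ξ).map f).left) : Flat f.left := by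
  haveI : Flat (f.left ≫ Y.hom) := by rw [Over.w]; infer_instance
  haveI : LocallyOfFinitePresentation (f.left ≫ Y.hom) := by rw [Over.w]; infer_instance
  refine FlatLib.flat_of_fibres_flat_lfp f.left Y.hom fun s => ?_
  let κ := S.residueField s
  let K := AlgebraicClosure κ
  let b : Spec (CommRingCat.of K) ⟶ Spec κ := Spec.map (CommRingCat.ofHom (algebraMap κ K))
  obtain ⟨hb1, hb2⟩ := (flat_and_surjective_SpecMap_iff (CommRingCat.ofHom (algebraMap κ K))).mpr
    (RingHom.faithfullyFlat_algebraMap_iff.mpr inferInstance)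
  haveI : Flat b := hb1
  haveI : Surjective b := hb2
  let ξ := b ≫ S.fromSpecResidueField s
  let f' := ((Over.pullback ξ).map f).left
  haveI : Flat f' := h K ξ
  have sqY : IsPullback (pullback.fst Y.hom ξ) (pullback.snd Y.hom ξ) Y.hom ξ := IsPullback.of_hasPullback _ _
  have sqF := FlatLib.isPullback_fiber Y.hom s
  let kY : pullback Y.hom ξ ⟶ Y.hom.fiber s :=
    sqF.lift (pullback.fst Y.hom ξ) (pullback.snd Y.hom ξ ≫ b) (by rw [Category.assoc]; exact sqY.w)
  have hkY : IsPullback kY (pullback.snd Y.hom ξ) (Y.hom.fiberToSpecResidueField s) b := by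
    refine IsPullback.of_right ?_ (sqF.lift_snd _ _ _) sqF
    rw [sqF.lift_fst]
    exact sqY
  haveI : Flat kY := MorphismProperty.of_isPullback hkY.flip ‹Flat b›
  haveI : Surjective kY := MorphismProperty.of_isPullback hkY.flip ‹Surjective b›
  have sqM := FlatLib.isPullback_fiberMap f.left Y.hom s
  have hf'1 : f' ≫ pullback.fst Y.hom ξ = pullback.fst X.hom ξ ≫ f.left := pullback.lift_fst _ _ _
  have hf'2 : f' ≫ pullback.snd Y.hom ξ = pullback.snd X.hom ξ := pullback.lift_snd _ _ _
  let k : pullback X.hom ξ ⟶ (f.left ≫ Y.hom).fiber s := sqM.lift (pullback.fst X.hom ξ) (f' ≫ kY)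
    (by rw [Category.assoc, sqF.lift_fst, hf'1])
  have sqk : IsPullback k f' (MoreMor.fiberMap f.left Y.hom s) kY := by
    refine IsPullback.of_right ?_ (sqM.lift_snd _ _ _) sqM
    rw [sqM.lift_fst, sqF.lift_fst]
    refine IsPullback.of_bot ?_ hf'1.symm sqY
    rw [Over.w f, hf'2]
    exact IsPullback.of_hasPullback X.hom ξ
  haveI : Flat k := MorphismProperty.of_isPullback sqk.flip ‹Flat kY›
  haveI : Surjective k := MorphismProperty.of_isPullback sqk.flip ‹Surjective kY›
  exact flat_of_square sqk.w

/-- A surjective homomorphism to a group with geometrically reduced fibres is flat. -/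
theorem flat_of_surjective {S : Scheme.{u}} {X Y : Over S} [GrpObj X] [GrpObj Y] (f : X ⟶ Y) [IsMonHom f]
    [Flat X.hom] [LocallyOfFinitePresentation X.hom] [LocallyOfFiniteType Y.hom] [GeometricallyReduced Y.hom]
    [Surjective f.left] : Flat f.left := by
  refine flat_of_geometric_fibres f fun K _ _ ξ => ?_
  letI : GrpObj ((Over.pullback ξ).obj X) := Functor.grpObjObj
  letI : GrpObj ((Over.pullback ξ).obj Y) := Functor.grpObjObj
  haveI := isMonHom_pullback_map ξ f
  haveI : LocallyOfFiniteType ((Over.pullback ξ).obj X).hom := inferInstanceAs (LocallyOfFiniteType (pullback.snd X.hom ξ))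
  haveI : LocallyOfFiniteType ((Over.pullback ξ).obj Y).hom := inferInstanceAs (LocallyOfFiniteType (pullback.snd Y.hom ξ))
  haveI : AlgebraicGeometry.IsReduced ((Over.pullback ξ).obj Y).left :=
    GeometricallyReduced.geometrically_isReduced ξ _ _ (IsPullback.of_hasPullback Y.hom ξ)
  have hsurj : Surjective ((Over.pullback ξ).map f).left := by
    have sq : IsPullback (pullback.fst X.hom ξ) ((Over.pullback ξ).map f).left f.left (pullback.fst Y.hom ξ) := by
      refine IsPullback.of_bot ?_ (pullback.lift_fst _ _ _).symm (IsPullback.of_hasPullback Y.hom ξ)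
      rw [Over.w f, show ((Over.pullback ξ).map f).left ≫ pullback.snd Y.hom ξ = pullback.snd X.hom ξ from
        pullback.lift_snd _ _ _]
      exact IsPullback.of_hasPullback X.hom ξ
    exact MorphismProperty.of_isPullback sq ‹Surjective f.left›
  haveI : Nonempty ((Over.pullback ξ).obj Y).left := ⟨(η[(Over.pullback ξ).obj Y]).left.base (IsLocalRing.closedPoint K)⟩
  obtain ⟨y⟩ := ‹Nonempty ((Over.pullback ξ).obj Y).left›
  have hg := (isIrreducible_irreducibleComponent (x := y)).isGenericPoint_genericPoint_closure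
  rw [closure_eq_iff_isClosed.mpr isClosed_irreducibleComponent] at hg
  obtain ⟨x, hx⟩ := hsurj.surj ((isIrreducible_irreducibleComponent (x := y)).genericPoint)
  refine flat_of_algClosed _ _ _ ⟨x, ?_⟩
  rw [hx, hg.def]
  exact irreducibleComponent_mem_irreducibleComponents y

theorem geometricallyReduced_of_smooth {X S : Scheme.{u}} (f : X ⟶ S) [Smooth f] : GeometricallyReduced f := by
  constructor
  intro K _ y Z g p sq
  haveI : Smooth p := MorphismProperty.of_isPullback sq ‹Smooth f›
  exact AlgSpLib.isReduced_of_smooth p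

/-- A proper open homomorphism to a group with connected fibres is surjective. -/
theorem surjective_of_isOpenMap {S : Scheme.{u}} {X Y : Over S} [GrpObj X] [GrpObj Y] (f : X ⟶ Y) [IsMonHom f]
    [GeometricallyConnected Y.hom] [IsProper f.left] (ho : IsOpenMap f.left.base) : Surjective f.left := by
  constructor
  intro y
  have hc : _root_.IsPreconnected (Y.hom.base ⁻¹' {Y.hom.base y}) := (Y.hom.isConnected_preimage_singleton _).2
  have he : η[Y].left.base (Y.hom.base y) ∈ Y.hom.base ⁻¹' {Y.hom.base y} :=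
    congrArg (fun m : S ⟶ S => m.base (Y.hom.base y)) (Over.w η[Y])
  have hmem : η[Y].left.base (Y.hom.base y) ∈ Set.range f.left.base := ⟨η[X].left.base (Y.hom.base y), by
    rw [← Scheme.Hom.comp_apply, ← Over.comp_left, IsMonHom.one_hom]⟩
  exact hc.subset_isClopen ⟨f.left.isClosedMap.isClosed_range, ho.isOpen_range⟩
    ⟨_, he, hmem⟩ (rfl : y ∈ Y.hom.base ⁻¹' {Y.hom.base y})

end AbSchLib
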