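import Groth.Agent.H0Lib.Group
import Mathlib.AlgebraicGeometry.Morphisms.FormallyUnramified

/-!
# Multiplication by an invertible integer is formally unramified
-/

set_option autoImplicit false

universe u

open CategoryTheory CategoryTheory.Limits AlgebraicGeometry MonoidalCategory CartesianMonoidalCategory
open scoped MonObj

namespace AbSchLib

section Ring

variable {R : Type u} [CommRing R] (I : Ideal R)

/-- Pairs congruent modulo `I`. -/
def pairs : Subring (R × R) := RingHom.eqLocus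
  ((Ideal.Quotient.mk I).comp (RingHom.fst R R)) ((Ideal.Quotient.mk I).comp (RingHom.snd R R))

/-- Triples congruent modulo `I`. -/
def triples : Subring (R × R × R) := RingHom.eqLocus
    ((Ideal.Quotient.mk I).comp (RingHom.fst R (R × R)))
    ((Ideal.Quotient.mk I).comp ((RingHom.fst R R).comp (RingHom.snd R (R × R)))) ⊓
  RingHom.eqLocus
    ((Ideal.Quotient.mk I).comp (RingHom.fst R (R × R)))
    ((Ideal.Quotient.mk I).comp ((RingHom.snd R R).comp (RingHom.snd R (R × R))))

theorem sub_mem_of_pairs (p : pairs I) : p.1.2 - p.1.1 ∈ I := (Ideal.Quotient.eq).mp p.2.symm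

theorem sub_mem_of_triples₁ (p : triples I) : p.1.2.1 - p.1.1 ∈ I := (Ideal.Quotient.eq).mp p.2.1.symm

theorem sub_mem_of_triples₂ (p : triples I) : p.1.2.2 - p.1.1 ∈ I := (Ideal.Quotient.eq).mp p.2.2.symm

theorem mul_eq_zero_of_sq {x y : R} (hI : I ^ 2 = ⊥) (hx : x ∈ I) (hy : y ∈ I) : x * y = 0 := by
  have := Ideal.mul_mem_mul hx hy
  rwa [← pow_two, hI, Ideal.mem_bot] at this

def diag₂ : R →+* pairs I := ((RingHom.id R).prod (RingHom.id R)).codRestrict _ fun _ => rfl

def diag₃ : R →+* triples I :=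
  ((RingHom.id R).prod ((RingHom.id R).prod (RingHom.id R))).codRestrict _ fun _ => ⟨rfl, rfl⟩

variable {I} (hI : I ^ 2 = ⊥)

/-- `(r, r') ↦ r + c (r' - r)` -/
def scale (c : R) : pairs I →+* R where
  toFun p := p.1.1 + c * (p.1.2 - p.1.1)
  map_one' := by simp
  map_zero' := by simp
  map_add' p q := by
    simp only [Subring.coe_add, Prod.fst_add, Prod.snd_add]
    ring
  map_mul' p q := by
    simp only [Subring.coe_mul, Prod.fst_mul, Prod.snd_mul]
    have h := mul_eq_zero_of_sq I hI (sub_mem_of_pairs I p) (sub_mem_of_pairs I q)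
    linear_combination (c - c * c) * h

/-- `(r, r', r'') ↦ r' + r'' - r` -/
def addMap : triples I →+* R where
  toFun p := p.1.2.1 + p.1.2.2 - p.1.1
  map_one' := by simp
  map_zero' := by simp
  map_add' p q := by
    simp only [Subring.coe_add, Prod.fst_add, Prod.snd_add]
    ring
  map_mul' p q := by
    simp only [Subring.coe_mul, Prod.fst_mul, Prod.snd_mul]
    have h1 := mul_eq_zero_of_sq I hI (sub_mem_of_triples₁ I p) (sub_mem_of_triples₂ I q)
    have h2 := mul_eq_zero_of_sq I hI (sub_mem_of_triples₂ I p) (sub_mem_of_triples₁ I q)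
    linear_combination -h1 - h2

/-- `(r, r') ↦ (r, r + a δ, r + b δ)` -/
def spread (a b : R) : pairs I →+* triples I :=
  ((((RingHom.fst R R).comp (pairs I).subtype)).prod ((scale hI a).prod (scale hI b))).codRestrict _ fun p =>
    ⟨(Ideal.Quotient.eq.mpr (show (p.1.1 + a * (p.1.2 - p.1.1)) - p.1.1 ∈ I by
        rw [add_sub_cancel_left]; exact I.mul_mem_left _ (sub_mem_of_pairs I p))).symm,
     (Ideal.Quotient.eq.mpr (show (p.1.1 + b * (p.1.2 - p.1.1)) - p.1.1 ∈ I by
        rw [add_sub_cancel_left]; exact I.mul_mem_left _ (sub_mem_of_pairs I p))).symm⟩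

/-- `(r, r') ↦ (r, r + a δ)` -/
def dilate (a : R) : pairs I →+* pairs I :=
  (((RingHom.fst R R).comp (pairs I).subtype).prod (scale hI a)).codRestrict _ fun p =>
    (Ideal.Quotient.eq.mpr (show (p.1.1 + a * (p.1.2 - p.1.1)) - p.1.1 ∈ I by
      rw [add_sub_cancel_left]; exact I.mul_mem_left _ (sub_mem_of_pairs I p))).symm

end Ring

theorem comap_surj {A B : Type u} [CommRing A] [CommRing B] (f : A →+* B) (hf : Function.Surjective f)
    (h : RingHom.ker f ≤ nilradical A) : Function.Surjective (PrimeSpectrum.comap f) := by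
  rw [← Set.range_eq_univ, range_comap_of_surjective _ _ hf, Set.eq_univ_iff_forall]
  intro p a ha
  exact nilradical_le_prime p.asIdeal (h ha)

/-- Morphisms out of the spectrum of a ring agree as soon as they agree along a jointly injective
family of points, one of which is surjective. -/
theorem joint_ext {D : Type u} [CommRing D] {A : Type u} [CommRing A] {Y : Scheme.{u}} {κ : Type} (π : κ → D →+* A)
    (hinj : ∀ x : D, (∀ i, π i x = 0) → x = 0) (i₀ : κ)
    (hs : Function.Surjective (Spec.map (CommRingCat.ofHom (π i₀))).base)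
    (f g : Spec (CommRingCat.of D) ⟶ Y)
    (h : ∀ i, Spec.map (CommRingCat.ofHom (π i)) ≫ f = Spec.map (CommRingCat.ofHom (π i)) ≫ g) : f = g := by
  let em := equalizer.ι f g
  let l := fun i => equalizer.lift (Spec.map (CommRingCat.ofHom (π i))) (h i)
  have hl : ∀ i, l i ≫ em = Spec.map (CommRingCat.ofHom (π i)) := fun i => equalizer.lift_ι _ _
  haveI : IsImmersion em := inferInstance
  have hsurj : Function.Surjective em.base := fun x => by
    obtain ⟨w, hw⟩ := hs x
    exact ⟨(l i₀).base w, by rw [← Scheme.Hom.comp_apply, hl]; exact hw⟩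
  haveI : IsClosedImmersion em := IsClosedImmersion.of_isPreimmersion em (by rw [hsurj.range_eq]; exact isClosed_univ)
  haveI : IsAffine (equalizer f g) := isAffine_of_isAffineHom em
  haveI : IsIso em := by
    refine IsClosedImmersion.isIso_of_injective_of_isAffine ?_
    rw [injective_iff_map_eq_zero]
    intro x hx
    have hx' : (Scheme.ΓSpecIso (CommRingCat.of D)).hom x = 0 := hinj _ fun i => by
      have e : (l i ≫ em).appTop = (Spec.map (CommRingCat.ofHom (π i))).appTop := by rw [hl]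
      have e2 : (Spec.map (CommRingCat.ofHom (π i))).appTop x = 0 := by
        rw [← e, Scheme.Hom.comp_appTop]
        show (l i).appTop (em.appTop x) = 0
        rw [hx, map_zero]
      have e3 := congrArg (fun k : Γ(Spec (CommRingCat.of D), ⊤) ⟶ _ => k.hom x)
        (Scheme.ΓSpecIso_naturality (CommRingCat.ofHom (π i)))
      simp only [CommRingCat.hom_comp, RingHom.comp_apply] at e3
      rw [e2, map_zero] at e3
      exact e3.symm
    exact (ConcreteCategory.bijective_of_isIso (Scheme.ΓSpecIso (CommRingCat.of D)).hom).1 (hx'.trans (map_zero _).symm)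
  rw [← cancel_epi em]
  exact equalizer.condition f g

variable {S : Scheme.{u}} {X : Over S} [GrpObj X] {R : Type u} [CommRing R]

theorem scale_zero {I : Ideal R} (hI : I ^ 2 = ⊥) : scale hI 0 = (RingHom.fst R R).comp (pairs I).subtype :=
  RingHom.ext fun p => by show p.1.1 + 0 * (p.1.2 - p.1.1) = p.1.1; ring

theorem scale_one {I : Ideal R} (hI : I ^ 2 = ⊥) : scale hI 1 = (RingHom.snd R R).comp (pairs I).subtype :=
  RingHom.ext fun p => by show p.1.1 + 1 * (p.1.2 - p.1.1) = p.1.2; ring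

/-- Powers of an affine thickening-valued point which is trivial to first order. -/
theorem zpow_affine_aux (I : Ideal R) (hI : I ^ 2 = ⊥) (st : Spec (CommRingCat.of R) ⟶ S)
    (d : Over.mk st ⟶ X) {V : Scheme.{u}} [IsAffine V] (em : V ⟶ X.left) [IsOpenImmersion em]
    (hV : Set.range (1 : Over.mk st ⟶ X).left.base ⊆ Set.range em.base)
    (hd : Spec.map (CommRingCat.ofHom (Ideal.Quotient.mk I)) ≫ d.left =
      Spec.map (CommRingCat.ofHom (Ideal.Quotient.mk I)) ≫ (1 : Over.mk st ⟶ X).left)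
    (n : ℤ) : ((n : R) = 0 → d ^ n = 1) ∧ (IsUnit (n : R) → d ^ n = 1 → d = 1) := by
  let T : Over S := Over.mk st
  let T2 : Over S := Over.mk (Spec.map (CommRingCat.ofHom (diag₂ I)) ≫ st)
  let T3 : Over S := Over.mk (Spec.map (CommRingCat.ofHom (diag₃ I)) ≫ st)
  have hov : ∀ {A B : Type u} [CommRing A] [CommRing B] (sA : R →+* A) (sB : R →+* B) (φ : A →+* B),
      φ.comp sA = sB → Spec.map (CommRingCat.ofHom φ) ≫ Spec.map (CommRingCat.ofHom sA) ≫ st =
        Spec.map (CommRingCat.ofHom sB) ≫ st := fun sA sB φ h => by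
    rw [← Spec.map_comp_assoc, ← CommRingCat.ofHom_comp, h]
  let sc : R → (T ⟶ T2) := fun c => Over.homMk (Spec.map (CommRingCat.ofHom (scale hI c))) (by
    show Spec.map _ ≫ Spec.map _ ≫ st = st
    rw [hov (diag₂ I) (RingHom.id R) _ (RingHom.ext fun r => by show r + c * (r - r) = r; ring)]; simp)
  let π3 : Fin 3 → (triples I →+* R) := ![(RingHom.fst R (R × R)).comp (triples I).subtype,
    ((RingHom.fst R R).comp (RingHom.snd R (R × R))).comp (triples I).subtype,
    ((RingHom.snd R R).comp (RingHom.snd R (R × R))).comp (triples I).subtype]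
  have hπ3 : ∀ i, (π3 i).comp (diag₃ I) = RingHom.id R := by intro i; fin_cases i <;> rfl
  let t : ∀ (φ : triples I →+* R), φ.comp (diag₃ I) = RingHom.id R → (T ⟶ T3) := fun φ h =>
    Over.homMk (Spec.map (CommRingCat.ofHom φ)) (by
      show Spec.map _ ≫ Spec.map _ ≫ st = st
      rw [hov (diag₃ I) (RingHom.id R) _ h]; simp)
  let sp : R → R → (T3 ⟶ T2) := fun a b => Over.homMk (Spec.map (CommRingCat.ofHom (spread hI a b))) (by
    show Spec.map _ ≫ Spec.map _ ≫ st = Spec.map _ ≫ st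
    exact hov (diag₂ I) (diag₃ I) _ (RingHom.ext fun r => Subtype.ext (Prod.ext rfl (Prod.ext
      (show r + a * (r - r) = r by ring) (show r + b * (r - r) = r by ring)))))
  let dil : R → (T2 ⟶ T2) := fun a => Over.homMk (Spec.map (CommRingCat.ofHom (dilate hI a))) (by
    show Spec.map _ ≫ Spec.map _ ≫ st = Spec.map _ ≫ st
    exact hov (diag₂ I) (diag₂ I) _ (RingHom.ext fun r => Subtype.ext (Prod.ext rfl
      (show r + a * (r - r) = r by ring))))
  let π2 : Fin 2 → (pairs I →+* R) := ![scale hI 0, scale hI 1]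
  have hinj2 : ∀ x : pairs I, (∀ i, π2 i x = 0) → x = 0 := fun x h => by
    have h0 : x.1.1 = 0 := by have := h 0; simpa [π2, scale_zero hI] using this
    have h1 : x.1.2 = 0 := by have := h 1; simpa [π2, scale_one hI] using this
    exact Subtype.ext (Prod.ext h0 h1)
  have hinj3 : ∀ x : triples I, (∀ i, π3 i x = 0) → x = 0 := fun x h =>
    Subtype.ext (Prod.ext (h 0) (Prod.ext (h 1) (h 2)))
  have hs2 : Function.Surjective (Spec.map (CommRingCat.ofHom (π2 0))).base := by
    refine comap_surj _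
      (fun r => ⟨diag₂ I r, show r + 0 * (r - r) = r by ring⟩) ?_
    intro p hp
    have hp0 : p.1.1 = 0 := by simpa [π2, scale_zero hI] using hp
    refine ⟨2, Subtype.ext (Prod.ext ?_ ?_)⟩
    · show p.1.1 ^ 2 = 0
      rw [hp0]; ring
    · show p.1.2 ^ 2 = 0
      have := sub_mem_of_pairs I p
      rw [hp0, sub_zero] at this
      rw [pow_two]; exact mul_eq_zero_of_sq I hI this this
  have hs3 : Function.Surjective (Spec.map (CommRingCat.ofHom (π3 0))).base := by
    refine comap_surj _ (fun r => ⟨diag₃ I r, rfl⟩) ?_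
    intro p hp
    have hp0 : p.1.1 = 0 := hp
    refine ⟨2, Subtype.ext (Prod.ext ?_ (Prod.ext ?_ ?_))⟩
    · show p.1.1 ^ 2 = 0
      rw [hp0]; ring
    · show p.1.2.1 ^ 2 = 0
      have := sub_mem_of_triples₁ I p
      rw [hp0, sub_zero] at this
      rw [pow_two]; exact mul_eq_zero_of_sq I hI this this
    · show p.1.2.2 ^ 2 = 0
      have := sub_mem_of_triples₂ I p
      rw [hp0, sub_zero] at this
      rw [pow_two]; exact mul_eq_zero_of_sq I hI this this
  have ext3 : ∀ f g : T3 ⟶ X, (∀ i, t (π3 i) (hπ3 i) ≫ f = t (π3 i) (hπ3 i) ≫ g) → f = g := fun f g h => by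
    ext1
    exact joint_ext π3 hinj3 0 hs3 _ _ fun i => congrArg Over.Hom.left (h i)
  have ext2 : ∀ f g : T2 ⟶ X, sc 0 ≫ f = sc 0 ≫ g → sc 1 ≫ f = sc 1 ≫ g → f = g := fun f g h0 h1 => by
    ext1
    refine joint_ext π2 hinj2 0 hs2 _ _ fun i => ?_
    fin_cases i
    · exact congrArg Over.Hom.left h0
    · exact congrArg Over.Hom.left h1
  -- lifts to the affine open
  have hVd : Set.range d.left.base ⊆ Set.range em.base := by
    rintro _ ⟨z, rfl⟩
    obtain ⟨w, rfl⟩ : z ∈ Set.range (Spec.map (CommRingCat.ofHom (Ideal.Quotient.mk I))).base :=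
      (comap_surj (Ideal.Quotient.mk I)
        Ideal.Quotient.mk_surjective (by
          rw [Ideal.mk_ker]
          intro x hx
          exact ⟨2, by rw [pow_two]; exact mul_eq_zero_of_sq I hI hx hx⟩)) z
    rw [← Scheme.Hom.comp_apply, hd, Scheme.Hom.comp_apply]
    exact hV ⟨_, rfl⟩
  obtain ⟨ψe, hψe⟩ := Spec.map_surjective (IsOpenImmersion.lift em _ hV ≫ V.isoSpec.hom)
  obtain ⟨ψd, hψd⟩ := Spec.map_surjective (IsOpenImmersion.lift em _ hVd ≫ V.isoSpec.hom)
  have hee : Spec.map ψe ≫ V.isoSpec.inv ≫ em = (1 : T ⟶ X).left := by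
    rw [hψe, Category.assoc, Iso.hom_inv_id_assoc, IsOpenImmersion.lift_fac]
  have hdd : Spec.map ψd ≫ V.isoSpec.inv ≫ em = d.left := by
    rw [hψd, Category.assoc, Iso.hom_inv_id_assoc, IsOpenImmersion.lift_fac]
  have hcong : ∀ a, Ideal.Quotient.mk I (ψe.hom a) = Ideal.Quotient.mk I (ψd.hom a) := by
    have h1 : Spec.map (ψd ≫ CommRingCat.ofHom (Ideal.Quotient.mk I)) =
        Spec.map (ψe ≫ CommRingCat.ofHom (Ideal.Quotient.mk I)) := by
      rw [← cancel_mono (V.isoSpec.inv ≫ em), Spec.map_comp, Spec.map_comp, Category.assoc, Category.assoc, hdd, hee]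
      exact hd
    exact fun a => congrArg (fun k : Γ(V, ⊤) ⟶ _ => k.hom a) (Spec.map_inj.mp h1).symm
  let ψP : Γ(V, ⊤) ⟶ CommRingCat.of (pairs I) :=
    CommRingCat.ofHom ((ψe.hom.prod ψd.hom).codRestrict (pairs I) hcong)
  have hc0 : Spec.map (CommRingCat.ofHom (scale hI 0)) ≫ Spec.map ψP = Spec.map ψe := by
    rw [← Spec.map_comp]; congr 1; ext a; rw [scale_zero hI]; rfl
  have hc1 : Spec.map (CommRingCat.ofHom (scale hI 1)) ≫ Spec.map ψP = Spec.map ψd := by
    rw [← Spec.map_comp]; congr 1; ext a; rw [scale_one hI]; rfl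
  let P : T2 ⟶ X := Over.homMk (Spec.map ψP ≫ V.isoSpec.inv ≫ em) (by
    refine joint_ext π2 hinj2 0 hs2 _ _ fun i => ?_
    have hst : ∀ c, Spec.map (CommRingCat.ofHom (scale hI c)) ≫ T2.hom = st := fun c => Over.w (sc c)
    fin_cases i
    · show Spec.map (CommRingCat.ofHom (scale hI 0)) ≫ _ = Spec.map (CommRingCat.ofHom (scale hI 0)) ≫ T2.hom
      rw [hst, Category.assoc, Category.assoc, reassoc_of% hc0, reassoc_of% hee]
      exact Over.w (1 : T ⟶ X)
    · show Spec.map (CommRingCat.ofHom (scale hI 1)) ≫ _ = Spec.map (CommRingCat.ofHom (scale hI 1)) ≫ T2.hom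
      rw [hst, Category.assoc, Category.assoc, reassoc_of% hc1, reassoc_of% hdd]
      exact Over.w d)
  let E : R → (T ⟶ X) := fun c => sc c ≫ P
  have hE0 : E 0 = 1 := by
    ext1
    show Spec.map (CommRingCat.ofHom (scale hI 0)) ≫ Spec.map ψP ≫ V.isoSpec.inv ≫ em = _
    rw [reassoc_of% hc0, hee]
  have hE1 : E 1 = d := by
    ext1
    show Spec.map (CommRingCat.ofHom (scale hI 1)) ≫ Spec.map ψP ≫ V.isoSpec.inv ≫ em = _
    rw [reassoc_of% hc1, hdd]
  have hcomp : ∀ (φ : triples I →+* R) (hφ : φ.comp (diag₃ I) = RingHom.id R) (a b c : R),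
      φ.comp (spread hI a b) = scale hI c → t φ hφ ≫ sp a b ≫ P = E c := fun φ hφ a b c h => by
    rw [← Category.assoc]
    show _ = sc c ≫ P
    congr 1
    ext1
    show Spec.map _ ≫ Spec.map _ = Spec.map (CommRingCat.ofHom (scale hI c))
    rw [← Spec.map_comp, ← CommRingCat.ofHom_comp, h]
  have hπa : ∀ a b, (π3 0).comp (spread hI a b) = scale hI 0 ∧ (π3 1).comp (spread hI a b) = scale hI a ∧
      (π3 2).comp (spread hI a b) = scale hI b := fun a b =>
    ⟨RingHom.ext fun p => (show p.1.1 = p.1.1 + 0 * (p.1.2 - p.1.1) by ring), rfl, rfl⟩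
  have hadd : ∀ a b, E (a + b) = E a * E b := fun a b => by
    have hsplit : sp a b ≫ P = (sp a 0 ≫ P) * (sp 0 b ≫ P) := ext3 _ _ fun i => by
      rw [MonObj.comp_mul]
      fin_cases i
      · show t (π3 0) (hπ3 0) ≫ _ = (t (π3 0) (hπ3 0) ≫ _) * (t (π3 0) (hπ3 0) ≫ _)
        rw [hcomp _ (hπ3 0) a b 0 (hπa a b).1, hcomp _ (hπ3 0) a 0 0 (hπa a 0).1, hcomp _ (hπ3 0) 0 b 0 (hπa 0 b).1, hE0, one_mul]
      · show t (π3 1) (hπ3 1) ≫ _ = (t (π3 1) (hπ3 1) ≫ _) * (t (π3 1) (hπ3 1) ≫ _)
        rw [hcomp _ (hπ3 1) a b a (hπa a b).2.1, hcomp _ (hπ3 1) a 0 a (hπa a 0).2.1, hcomp _ (hπ3 1) 0 b 0 (hπa 0 b).2.1, hE0, mul_one]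
      · show t (π3 2) (hπ3 2) ≫ _ = (t (π3 2) (hπ3 2) ≫ _) * (t (π3 2) (hπ3 2) ≫ _)
        rw [hcomp _ (hπ3 2) a b b (hπa a b).2.2, hcomp _ (hπ3 2) a 0 0 (hπa a 0).2.2, hcomp _ (hπ3 2) 0 b b (hπa 0 b).2.2, hE0, one_mul]
    have hA : (addMap hI).comp (diag₃ I) = RingHom.id R := RingHom.ext fun r => (show r + r - r = r by ring)
    have hadd' : ∀ a b, (addMap hI).comp (spread hI a b) = scale hI (a + b) := fun a b => RingHom.ext fun p =>
      (show (p.1.1 + a * (p.1.2 - p.1.1)) + (p.1.1 + b * (p.1.2 - p.1.1)) - p.1.1 =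
        p.1.1 + (a + b) * (p.1.2 - p.1.1) by ring)
    have := congrArg (t (addMap hI) hA ≫ ·) hsplit
    simp only [MonObj.comp_mul] at this
    rwa [hcomp _ hA a b (a + b) (hadd' a b), hcomp _ hA a 0 a (by rw [hadd', add_zero]),
      hcomp _ hA 0 b b (by rw [hadd', zero_add])] at this
  let Eh : Multiplicative R →* (T ⟶ X) :=
    { toFun := fun c => E c.toAdd, map_one' := hE0, map_mul' := fun a b => hadd _ _ }
  have hEn' : E (n : R) = d ^ n := by
    have := map_zpow Eh (Multiplicative.ofAdd (1 : R)) n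
    rw [show Eh (Multiplicative.ofAdd (1 : R)) = d from hE1] at this
    rw [← this, ← ofAdd_zsmul, zsmul_one]
    rfl
  refine ⟨fun h0 => by rw [← hEn', h0, hE0], fun hn hdn => ?_⟩
  have hEn : E (n : R) = 1 := hEn'.trans hdn
  obtain ⟨v, hv⟩ := hn
  have hdil : ∀ c a, sc c ≫ dil a = sc (c * a) := fun c a => by
    ext1
    show Spec.map _ ≫ Spec.map _ = Spec.map _
    rw [← Spec.map_comp, ← CommRingCat.ofHom_comp]
    congr 2
    exact RingHom.ext fun p => (show p.1.1 + c * (p.1.1 + a * (p.1.2 - p.1.1) - p.1.1) =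
      p.1.1 + (c * a) * (p.1.2 - p.1.1) by ring)
  have hP' : dil (n : R) ≫ P = 1 := by
    apply ext2
    · rw [← Category.assoc, hdil, zero_mul, MonObj.comp_one]; exact hE0
    · rw [← Category.assoc, hdil, one_mul, MonObj.comp_one]; exact hEn
  rw [← hE1, show E 1 = sc (↑v⁻¹ * (n : R)) ≫ P by rw [← hv, Units.inv_mul]]
  rw [← hdil, Category.assoc, hP', MonObj.comp_one]

/-- An affine thickening-valued point which is trivial to first order and killed by `n` is trivial. -/
theorem eq_one_of_zpow_eq_one_affine (I : Ideal R) (hI : I ^ 2 = ⊥) (st : Spec (CommRingCat.of R) ⟶ S)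
    (d : Over.mk st ⟶ X) {V : Scheme.{u}} [IsAffine V] (em : V ⟶ X.left) [IsOpenImmersion em]
    (hV : Set.range (1 : Over.mk st ⟶ X).left.base ⊆ Set.range em.base)
    (hd : Spec.map (CommRingCat.ofHom (Ideal.Quotient.mk I)) ≫ d.left =
      Spec.map (CommRingCat.ofHom (Ideal.Quotient.mk I)) ≫ (1 : Over.mk st ⟶ X).left)
    (n : ℤ) (hn : IsUnit (n : R)) (hdn : d ^ n = 1) : d = 1 :=
  (zpow_affine_aux I hI st d em hV hd n).2 hn hdn

/-- An affine thickening-valued point which is trivial to first order is killed by `n` if `n = 0` in `R`. -/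
theorem zpow_eq_one_of_cast_eq_zero_affine (I : Ideal R) (hI : I ^ 2 = ⊥) (st : Spec (CommRingCat.of R) ⟶ S)
    (d : Over.mk st ⟶ X) {V : Scheme.{u}} [IsAffine V] (em : V ⟶ X.left) [IsOpenImmersion em]
    (hV : Set.range (1 : Over.mk st ⟶ X).left.base ⊆ Set.range em.base)
    (hd : Spec.map (CommRingCat.ofHom (Ideal.Quotient.mk I)) ≫ d.left =
      Spec.map (CommRingCat.ofHom (Ideal.Quotient.mk I)) ≫ (1 : Over.mk st ⟶ X).left)
    (n : ℤ) (hn : (n : R) = 0) : d ^ n = 1 :=
  (zpow_affine_aux I hI st d em hV hd n).1 hn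

/-- A thickening-valued point which is trivial to first order and killed by `n` is trivial. -/
theorem eq_one_of_zpow_eq_one {A B : CommRingCat.{u}} (φ : A ⟶ B) (hφ : Function.Surjective φ)
    (hI : RingHom.ker φ.hom ^ 2 = ⊥) (st : Spec A ⟶ S) (d : Over.mk st ⟶ X)
    (hd : Spec.map φ ≫ d.left = Spec.map φ ≫ (1 : Over.mk st ⟶ X).left)
    (n : ℤ) (hn : IsUnit (n : A)) (hdn : d ^ n = 1) : d = 1 := by
  let o : Over.mk st ⟶ X := 1
  ext1
  refine Scheme.hom_ext_of_forall _ _ fun z => ?_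
  obtain ⟨V, hV, hzV, -⟩ := exists_isAffineOpen_mem_and_subset (U := ⊤) (x := o.left.base z) trivial
  obtain ⟨_, ⟨g, rfl⟩, hzg, hgV⟩ := PrimeSpectrum.isTopologicalBasis_basic_opens.exists_subset_of_mem_open
    (show z ∈ ((o.left ⁻¹ᵁ V : (Spec A).Opens) : Set (Spec A)) from hzV) (o.left ⁻¹ᵁ V).isOpen
  let L := Localization.Away g
  let j : Spec (CommRingCat.of L) ⟶ Spec A := Spec.map (CommRingCat.ofHom (algebraMap A L))
  have hj : Set.range j.base = (PrimeSpectrum.basicOpen g : Set (PrimeSpectrum A)) :=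
    PrimeSpectrum.localization_away_comap_range L g
  refine ⟨j.opensRange, show z ∈ Set.range j.base by rw [hj]; exact hzg, ?_⟩
  rw [← cancel_epi j.isoOpensRange.hom, Scheme.Hom.isoOpensRange_hom_ι_assoc, Scheme.Hom.isoOpensRange_hom_ι_assoc]
  let I := (RingHom.ker φ.hom).map (algebraMap A L)
  have hI' : I ^ 2 = ⊥ := by rw [← Ideal.map_pow, hI, Ideal.map_bot]
  let jT : Over.mk (j ≫ st) ⟶ Over.mk st := Over.homMk j rfl
  have h1 : jT ≫ d = 1 := by
    haveI : IsAffine V.toScheme := hV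
    refine eq_one_of_zpow_eq_one_affine I hI' (j ≫ st) (jT ≫ d) V.ι ?_ ?_ n ?_ ?_
    · rw [show (1 : Over.mk (j ≫ st) ⟶ X) = jT ≫ o from (MonObj.comp_one jT).symm]
      rintro _ ⟨w, rfl⟩
      rw [Scheme.Opens.range_ι]
      exact hgV (hj ▸ ⟨w, rfl⟩ : j.base w ∈ (PrimeSpectrum.basicOpen g : Set (PrimeSpectrum A)))
    · rw [show (1 : Over.mk (j ≫ st) ⟶ X) = jT ≫ o from (MonObj.comp_one jT).symm]
      have hk : RingHom.ker φ.hom ≤ RingHom.ker ((Ideal.Quotient.mk I).comp (algebraMap A L)) := fun a ha =>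
        Ideal.Quotient.eq_zero_iff_mem.mpr (Ideal.mem_map_of_mem _ ha)
      let l : B ⟶ CommRingCat.of (L ⧸ I) := CommRingCat.ofHom (RingHom.liftOfSurjective φ.hom hφ
        ⟨(Ideal.Quotient.mk I).comp (algebraMap A L), hk⟩)
      have hl : φ ≫ l = CommRingCat.ofHom (algebraMap A L) ≫ CommRingCat.ofHom (Ideal.Quotient.mk I) := by
        ext a
        exact RingHom.liftOfRightInverse_comp_apply _ _ (Function.rightInverse_surjInv hφ) ⟨_, hk⟩ a
      show Spec.map _ ≫ j ≫ d.left = Spec.map _ ≫ j ≫ o.left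
      rw [← Spec.map_comp_assoc, ← Spec.map_comp_assoc, ← hl, Spec.map_comp, Category.assoc, Category.assoc, hd]
    · simpa using hn.map (algebraMap A L)
    · rw [← GrpObj.comp_zpow, hdn, MonObj.comp_one]
  show j ≫ d.left = j ≫ o.left
  have h2 : jT ≫ d = jT ≫ o := h1.trans (MonObj.comp_one jT).symm
  exact congrArg Over.Hom.left h2

end AbSchLib
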