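import Groth.Agent.AbSchLib.Flat
import Groth.Agent.S12442
import Groth.Agent.AbSchLib.Unram
import Groth.Agent.FibDimLib.FibreJumps
import Groth.Agent.DescLib.QAff

/-!
# Multiplication by an invertible integer is finite etale
-/

set_option autoImplicit false

universe u

open CategoryTheory CategoryTheory.Limits AlgebraicGeometry MonoidalCategory CartesianMonoidalCategory TopologicalSpace
open scoped MonObj

namespace AbSchLib

/-- A self-map with discrete fibres of a scheme of finite type over a field hits a generic point. -/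
theorem exists_generic_image {K : Type u} [Field K] {X : Scheme.{u}} (q : X ⟶ Spec (CommRingCat.of K))
    [LocallyOfFiniteType q] [QuasiCompact q] [Nonempty X] (f : X ⟶ X) [LocallyQuasiFinite f] :
    ∃ x : X, closure {f.base x} ∈ irreducibleComponents X := by
  haveI : IsLocallyNoetherian X := LocallyOfFiniteType.isLocallyNoetherian q
  haveI : CompactSpace X := QuasiCompact.compactSpace_of_compactSpace q
  haveI : IsNoetherian X := ⟨⟩
  obtain ⟨z, hz, hdz⟩ := FibDimLib.exists_generic_closure_dim (A := X)
  haveI : LocallyOfFiniteType (Over.mk q).hom := ‹LocallyOfFiniteType q›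
  obtain ⟨d, hd, -⟩ := WeilLib.pdim_eq_trdeg (Over.mk q) z
  have hdim : topologicalKrullDim X = (d : WithBot ℕ∞) := hdz.trans hd
  obtain ⟨c, hc⟩ := FibDimLib.exists_specChain hdim.ge
  have himg : FibDimLib.IsSpecChain (fun i => f.base (c i)) := by
    refine ⟨fun i j e => ?_, fun i j h => (hc.2 i j h).map f.continuous⟩
    have key : ∀ i j, i ≤ j → f.base (c i) = f.base (c j) → c i = c j := fun i j h e => by
      have := f.isDiscrete_preimage_singleton (f.base (c i))
      exact this.eq_of_specializes (hc.2 i j h) rfl e.symm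
    rcases le_total i j with h | h
    · exact hc.1 (key i j h e)
    · exact (hc.1 (key j i h e.symm)).symm
  refine ⟨c 0, FibDimLib.closure_mem_irreducibleComponents_of_max fun y hy => ?_⟩
  by_contra hne
  have hcons : FibDimLib.IsSpecChain (Fin.cons y (fun i => f.base (c i)) : Fin (d + 2) → X) := by
    constructor
    · rw [Fin.cons_injective_iff]
      refine ⟨?_, himg.1⟩
      rintro ⟨i, hi⟩
      refine hne ?_
      have h1 : f.base (c 0) ⤳ f.base (c i) := himg.2 0 i (Fin.zero_le i)
      have hi' : f.base (c i) = y := hi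
      rw [hi'] at h1
      exact (h1.antisymm hy).eq.symm
    · intro i j h
      induction i using Fin.cases with
      | zero =>
        induction j using Fin.cases with
        | zero => exact specializes_refl _
        | succ j => exact hy.trans (himg.2 0 j (Fin.zero_le j))
      | succ i =>
        induction j using Fin.cases with
        | zero => exact absurd h (by simp [Fin.le_def])
        | succ j => exact himg.2 i j (Fin.succ_le_succ_iff.mp h)
  have := hcons.le_topologicalKrullDim
  rw [hdim] at this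
  exact absurd this (by exact_mod_cast Nat.not_succ_le_self d)

theorem isMonHom_zpow {C : Type*} [Category C] [CartesianMonoidalCategory C] [BraidedCategory C] (X : C)
    [GrpObj X] [IsCommMonObj X] (n : ℤ) : IsMonHom ((𝟙 X : X ⟶ X) ^ n) := by
  refine ⟨by rw [GrpObj.comp_zpow, Category.comp_id, MonObj.one_eq_one, one_zpow], ?_⟩
  letI : CommGroup (X ⊗ X ⟶ X) := Hom.commGroup
  rw [GrpObj.comp_zpow, Category.comp_id, MonObj.mul_eq_mul, mul_zpow, ← MonObj.mul_eq_mul, MonObj.mul_eq_mul,
    MonObj.comp_mul, tensorHom_fst, tensorHom_snd, GrpObj.comp_zpow, GrpObj.comp_zpow, Category.comp_id, Category.comp_id]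

variable {S : Scheme.{u}} (X : Over S) [GrpObj X] [IsCommMonObj X]

theorem formallyUnramified_zpow (n : ℤ) (hn : IsUnit (n : Γ(S, ⊤))) :
    FormallyUnramified (𝟙 X ^ n).left := by
  refine FormallyUnramified.of_hom_ext _ fun A B φ hφ hI g₁ g₂ hg hgf => ?_
  have hst : g₂ ≫ X.hom = g₁ ≫ X.hom := by
    have := congrArg (· ≫ X.hom) hgf
    simp only [Category.assoc, Over.w] at this
    exact this.symm
  let a : Over.mk (g₁ ≫ X.hom) ⟶ X := Over.homMk g₁ rfl
  let b : Over.mk (g₁ ≫ X.hom) ⟶ X := Over.homMk g₂ hst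
  have hab : a ^ n = b ^ n := by
    have h : a ≫ (𝟙 X ^ n) = b ≫ (𝟙 X ^ n) := by ext1; exact hgf
    rwa [GrpObj.comp_zpow, GrpObj.comp_zpow, Category.comp_id, Category.comp_id] at h
  letI : CommGroup (Over.mk (g₁ ≫ X.hom) ⟶ X) := Hom.commGroup
  have hd : b * a⁻¹ = 1 := by
    refine eq_one_of_zpow_eq_one φ hφ hI (g₁ ≫ X.hom) (b * a⁻¹) ?_ n ?_ ?_
    · let i : Over.mk (Spec.map φ ≫ g₁ ≫ X.hom) ⟶ Over.mk (g₁ ≫ X.hom) := Over.homMk (Spec.map φ) rfl
      have hi : i ≫ b = i ≫ a := by ext1; exact hg.symm
      have : i ≫ (b * a⁻¹) = i ≫ 1 := by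
        rw [MonObj.comp_mul, GrpObj.comp_inv, hi, mul_inv_cancel, MonObj.comp_one]
      exact congrArg Over.Hom.left this
    · have := hn.map ((g₁ ≫ X.hom).appTop ≫ (Scheme.ΓSpecIso A).hom).hom
      rwa [map_intCast] at this
    · rw [mul_zpow, inv_zpow, hab, mul_inv_cancel]
  rw [mul_inv_eq_one] at hd
  exact (congrArg Over.Hom.left hd).symm

variable [IsProper X.hom] [Flat X.hom] [LocallyOfFinitePresentation X.hom] [GeometricallyReduced X.hom]

theorem isFinite_etale_zpow (n : ℤ) (hn : IsUnit (n : Γ(S, ⊤))) :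
    IsFinite (𝟙 X ^ n).left ∧ Etale (𝟙 X ^ n).left := by
  let f := (𝟙 X ^ n).left
  haveI : IsProper (f ≫ X.hom) := by rw [Over.w]; infer_instance
  haveI : IsProper f := IsProper.of_comp f X.hom
  haveI : FormallyUnramified f := formallyUnramified_zpow X n hn
  haveI : LocallyQuasiFinite f := DescLib.lqf_of_unramified f
  haveI hfin : IsFinite f := IsFinite.of_isProper_of_locallyQuasiFinite f
  haveI : Flat f := by
    refine flat_of_geometric_fibres (𝟙 X ^ n) fun K _ _ ξ => ?_
    letI : GrpObj ((Over.pullback ξ).obj X) := Functor.grpObjObj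
    haveI : IsCommMonObj ((Over.pullback ξ).obj X) := Functor.isCommMonObj_obj (F := Over.pullback ξ)
    haveI : IsMonHom (𝟙 X ^ n) := isMonHom_zpow X n
    haveI := isMonHom_pullback_map ξ (𝟙 X ^ n)
    let Xk := (Over.pullback ξ).obj X
    haveI : LocallyOfFiniteType Xk.hom := inferInstanceAs (LocallyOfFiniteType (pullback.snd X.hom ξ))
    haveI : QuasiCompact Xk.hom := inferInstanceAs (QuasiCompact (pullback.snd X.hom ξ))
    haveI : AlgebraicGeometry.IsReduced Xk.left :=
      GeometricallyReduced.geometrically_isReduced ξ _ _ (IsPullback.of_hasPullback X.hom ξ)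
    haveI : Nonempty Xk.left := ⟨(η[Xk]).left.base (IsLocalRing.closedPoint K)⟩
    have sq : IsPullback (pullback.fst X.hom ξ) ((Over.pullback ξ).map (𝟙 X ^ n)).left f (pullback.fst X.hom ξ) := by
      refine IsPullback.of_bot ?_ (pullback.lift_fst _ _ _).symm (IsPullback.of_hasPullback X.hom ξ)
      rw [Over.w (𝟙 X ^ n), show ((Over.pullback ξ).map (𝟙 X ^ n)).left ≫ pullback.snd X.hom ξ = pullback.snd X.hom ξ from
        pullback.lift_snd _ _ _]
      exact IsPullback.of_hasPullback X.hom ξ
    haveI : LocallyQuasiFinite ((Over.pullback ξ).map (𝟙 X ^ n)).left :=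
      MorphismProperty.of_isPullback (P := @LocallyQuasiFinite) sq ‹_›
    exact flat_of_algClosed _ _ _ (exists_generic_image Xk.hom _)
  haveI : LocallyOfFinitePresentation (f ≫ X.hom) := by rw [Over.w]; infer_instance
  haveI : LocallyOfFinitePresentation f := Groth.Agent.S12442.lfp_of_comp_lft f X.hom
  exact ⟨hfin, Etale.of_formallyUnramified_of_flat _⟩

end AbSchLib
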