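import Groth.Agent.FlatLib.FlatLocusScheme
import Groth.Agent.FibDimLib.Semicont
import Groth.Agent.FibDimLib.Pure
import Mathlib.AlgebraicGeometry.Morphisms.QuasiFinite

/-!
# Dimension is invariant under finite surjective maps
-/

set_option autoImplicit false

universe u

open CategoryTheory AlgebraicGeometry TopologicalSpace

namespace AbSchLib

theorem specializingMap_of_isClosedMap {X Y : Scheme.{u}} (f : X ⟶ Y) (hf : IsClosedMap f.base) :
    SpecializingMap f.base := fun x y (h : f.base x ⤳ y) => by
  obtain ⟨x', hx', rfl⟩ := closure_minimal (Set.image_mono (f := f.base) subset_closure)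
    (hf _ (isClosed_closure (s := {x}))) (by rw [Set.image_singleton]; exact h.mem_closure)
  exact ⟨x', specializes_iff_mem_closure.mpr hx', rfl⟩

theorem topologicalKrullDim_eq_of_finite_surjective {X Y : Scheme.{u}} (f : X ⟶ Y) [IsFinite f] [Surjective f] :
    topologicalKrullDim X = topologicalKrullDim Y := by
  have hkey : ∀ x x' : X, x ⤳ x' → f.base x = f.base x' → x = x' := fun x x' h e =>
    (f.isDiscrete_preimage_singleton (f.base x)).eq_of_specializes h rfl e.symm
  refine le_antisymm (FibDimLib.le_of_forall_nat_le fun n hn => ?_) (FibDimLib.le_of_forall_nat_le fun n hn => ?_)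
  · obtain ⟨c, hc⟩ := FibDimLib.exists_specChain hn
    refine FibDimLib.IsSpecChain.le_topologicalKrullDim (c := fun i => f.base (c i))
      ⟨fun i j e => ?_, fun i j h => (hc.2 i j h).map f.continuous⟩
    rcases le_total i j with h | h
    · exact hc.1 (hkey _ _ (hc.2 i j h) e)
    · exact (hc.1 (hkey _ _ (hc.2 j i h) e.symm)).symm
  · obtain ⟨c, hc⟩ := FibDimLib.exists_specChain hn
    have hlift : ∀ m : ℕ, ∀ e : Fin (m + 1) → Y, (∀ i j, i ≤ j → e i ⤳ e j) →
        ∃ e' : Fin (m + 1) → X, (∀ i, f.base (e' i) = e i) ∧ ∀ i j, i ≤ j → e' i ⤳ e' j := by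
      intro m
      induction m with
      | zero =>
        intro e _
        obtain ⟨x, hx⟩ := f.surjective (e 0)
        refine ⟨fun _ => x, fun i => ?_, fun _ _ _ => specializes_refl _⟩
        rw [hx, Fin.fin_one_eq_zero i]
      | succ m ih =>
        intro e he
        obtain ⟨e', h1, h2⟩ := ih (fun i => e i.castSucc) fun i j h => he _ _ (Fin.castSucc_le_castSucc_iff.mpr h)
        obtain ⟨x, hx, hxe⟩ := specializingMap_of_isClosedMap f f.isClosedMap (a := e' (Fin.last m))
          (show f.base (e' (Fin.last m)) ⤳ e (Fin.last (m + 1)) by rw [h1]; exact he _ _ (Fin.le_last _))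
        refine ⟨Fin.snoc e' x, fun i => ?_, fun i j h => ?_⟩
        · induction i using Fin.lastCases with
          | last => simpa using hxe
          | cast i => simpa using h1 i
        · induction j using Fin.lastCases with
          | last =>
            induction i using Fin.lastCases with
            | last => exact specializes_refl _
            | cast i => simpa using (h2 i _ (Fin.le_last i)).trans hx
          | cast j =>
            induction i using Fin.lastCases with
            | last => exact absurd h (not_le.mpr (Fin.castSucc_lt_last j))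
            | cast i => simpa using h2 i j (Fin.castSucc_le_castSucc_iff.mp h)
    obtain ⟨e', h1, h2⟩ := hlift n c hc.2
    exact FibDimLib.IsSpecChain.le_topologicalKrullDim
      ⟨fun i j e => hc.1 (by rw [← h1, ← h1, e]), h2⟩

theorem topologicalKrullDim_fiber_eq {X Y S : Scheme.{u}} (f : X ⟶ Y) (g : Y ⟶ S) [IsFinite f] [Surjective f]
    (s : S) : topologicalKrullDim ((f ≫ g).fiber s) = topologicalKrullDim (g.fiber s) := by
  have sq := FlatLib.isPullback_fiberMap f g s
  haveI : IsFinite (MoreMor.fiberMap f g s) := MorphismProperty.of_isPullback sq ‹IsFinite f›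
  haveI : Surjective (MoreMor.fiberMap f g s) := MorphismProperty.of_isPullback sq ‹Surjective f›
  exact topologicalKrullDim_eq_of_finite_surjective (MoreMor.fiberMap f g s)

end AbSchLib
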