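import Groth.Agent.AbSchLib.Unram

/-!
# Multiplication by an integer which is zero in the base field is ramified
-/

set_option autoImplicit false
set_option linter.style.haveILetI false
set_option maxHeartbeats 1000000

universe u

open CategoryTheory CategoryTheory.Limits AlgebraicGeometry MonoidalCategory CartesianMonoidalCategory TopologicalSpace
open scoped MonObj

namespace AbSchLib

/-- Lifts along a square zero thickening through an unramified morphism are unique. -/
theorem eq_of_unramified {X Y : Scheme.{u}} (f : X ⟶ Y) [FormallyUnramified f] [LocallyOfFiniteType f]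
    {R : Type u} [CommRing R] {I : Ideal R} (hI : I ^ 2 = ⊥) (g₁ g₂ : Spec (CommRingCat.of R) ⟶ X)
    (hg : Spec.map (CommRingCat.ofHom (Ideal.Quotient.mk I)) ≫ g₁ =
      Spec.map (CommRingCat.ofHom (Ideal.Quotient.mk I)) ≫ g₂)
    (hf : g₁ ≫ f = g₂ ≫ f) : g₁ = g₂ := by
  let w := pullback.lift g₁ g₂ hf
  have hw : Spec.map (CommRingCat.ofHom (Ideal.Quotient.mk I)) ≫ w =
      (Spec.map (CommRingCat.ofHom (Ideal.Quotient.mk I)) ≫ g₁) ≫ pullback.diagonal f := by
    apply pullback.hom_ext
    · simp only [w, Category.assoc, pullback.lift_fst, pullback.diagonal_fst, Category.comp_id]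
    · simp only [w, Category.assoc, pullback.lift_snd, pullback.diagonal_snd, Category.comp_id]; exact hg.symm
  have hr : Set.range w.base ⊆ Set.range (pullback.diagonal f).base := by
    rintro _ ⟨z, rfl⟩
    obtain ⟨z', rfl⟩ : z ∈ Set.range (Spec.map (CommRingCat.ofHom (Ideal.Quotient.mk I))).base :=
      (comap_surj (Ideal.Quotient.mk I) Ideal.Quotient.mk_surjective (by
        rw [Ideal.mk_ker]
        exact fun x hx => ⟨2, by rw [pow_two]; exact mul_eq_zero_of_sq I hI hx hx⟩)) z
    rw [← Scheme.Hom.comp_apply, hw, Scheme.Hom.comp_apply]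
    exact ⟨_, rfl⟩
  have hl := IsOpenImmersion.lift_fac (pullback.diagonal f) w hr
  have h1 := congrArg (· ≫ pullback.fst f f) hl
  have h2 := congrArg (· ≫ pullback.snd f f) hl
  simp only [Category.assoc, pullback.diagonal_fst, pullback.diagonal_snd, Category.comp_id] at h1 h2
  rw [pullback.lift_fst] at h1
  rw [pullback.lift_snd] at h2
  exact h1.symm.trans h2

/-- If `n = 0` in `K` and `[n]` is unramified, the group is zero dimensional. -/
theorem dim_eq_zero_of_unramified_zpow {K : Type u} [Field K] (A : Over (Spec (CommRingCat.of K))) [GrpObj A]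
    [IsIntegral A.left] [IsSeparated A.hom] [LocallyOfFiniteType A.hom] (n : ℤ) (hn : (n : K) = 0)
    [FormallyUnramified (𝟙 A ^ n).left] : topologicalKrullDim A.left = 0 := by
  let f := (𝟙 A ^ n).left
  haveI : LocallyOfFiniteType (f ≫ A.hom) := by rw [Over.w]; infer_instance
  haveI : LocallyOfFiniteType f := locallyOfFiniteType_of_comp f A.hom
  let e : Spec (CommRingCat.of K) ⟶ A.left := η[A].left
  let e0 := e.base (IsLocalRing.closedPoint K)
  obtain ⟨V, hV, heV, -⟩ := exists_isAffineOpen_mem_and_subset (U := ⊤) (x := e0) trivial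
  haveI : Nonempty V := ⟨⟨e0, heV⟩⟩
  haveI : IsAffine V.toScheme := hV
  haveI : IsNoetherianRing Γ(A.left, V) := by
    haveI : IsLocallyNoetherian A.left := LocallyOfFiniteType.isLocallyNoetherian A.hom
    exact IsLocallyNoetherian.component_noetherian ⟨V, hV⟩
  have heR : Set.range e.base ⊆ Set.range hV.fromSpec.base := by
    rintro _ ⟨z, rfl⟩
    rw [hV.range_fromSpec, Subsingleton.elim z (IsLocalRing.closedPoint K)]
    exact heV
  obtain ⟨ψ, hψ⟩ := Spec.map_surjective (IsOpenImmersion.lift hV.fromSpec e heR)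
  have hψe : Spec.map ψ ≫ hV.fromSpec = e := by rw [hψ, IsOpenImmersion.lift_fac]
  obtain ⟨σ, hσ⟩ := Spec.map_surjective (hV.fromSpec ≫ A.hom)
  have hsec : σ ≫ ψ = 𝟙 _ := by
    apply Spec.map_injective
    rw [Spec.map_comp, Spec.map_id, hσ, reassoc_of% hψe]
    exact Over.w η[A]
  have hψs : ∀ k, ψ.hom (σ.hom k) = k := fun k => congrArg (fun t : CommRingCat.of K ⟶ _ => t.hom k) hsec
  let m : Ideal Γ(A.left, V) := RingHom.ker ψ.hom
  let R := Γ(A.left, V) ⧸ m ^ 2
  let I : Ideal R := m.map (Ideal.Quotient.mk _)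
  have hI : I ^ 2 = ⊥ := by rw [← Ideal.map_pow, Ideal.map_quotient_self]
  let i : Spec (CommRingCat.of R) ⟶ A.left :=
    Spec.map (CommRingCat.ofHom (Ideal.Quotient.mk (m ^ 2))) ≫ hV.fromSpec
  let st := i ≫ A.hom
  let d : Over.mk st ⟶ A := Over.homMk i rfl
  have hone : (1 : Over.mk st ⟶ A).left =
      Spec.map (ψ ≫ σ ≫ CommRingCat.ofHom (Ideal.Quotient.mk (m ^ 2))) ≫ hV.fromSpec := by
    rw [Hom.one_def]
    show st ≫ e = _
    rw [Spec.map_comp, Spec.map_comp, hσ]
    show (Spec.map _ ≫ hV.fromSpec) ≫ A.hom ≫ e = _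
    simp only [Category.assoc, hψe]
  have hmodI : Spec.map (CommRingCat.ofHom (Ideal.Quotient.mk I)) ≫ d.left =
      Spec.map (CommRingCat.ofHom (Ideal.Quotient.mk I)) ≫ (1 : Over.mk st ⟶ A).left := by
    rw [hone]
    show Spec.map _ ≫ Spec.map _ ≫ hV.fromSpec = _
    rw [← Spec.map_comp_assoc, ← Spec.map_comp_assoc]
    congr 2
    ext a
    show Ideal.Quotient.mk I (Ideal.Quotient.mk _ a) = Ideal.Quotient.mk I (Ideal.Quotient.mk _ (σ.hom (ψ.hom a)))
    rw [Ideal.Quotient.eq, ← map_sub]
    refine Ideal.mem_map_of_mem _ ?_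
    show ψ.hom _ = 0
    rw [map_sub, hψs, sub_self]
  have hnR : (n : R) = 0 := by
    have := congrArg (fun k => Ideal.Quotient.mk (m ^ 2) (σ.hom k)) hn
    simpa using this
  have hdn : d ^ n = 1 := by
    refine zpow_eq_one_of_cast_eq_zero_affine I hI st d hV.fromSpec ?_ hmodI n hnR
    rw [hone]
    rintro _ ⟨z, rfl⟩
    rw [Scheme.Hom.comp_apply]
    exact ⟨_, rfl⟩
  have hd1 : d.left = (1 : Over.mk st ⟶ A).left := by
    refine eq_of_unramified f hI _ _ hmodI ?_
    have h : d ≫ (𝟙 A ^ n) = 1 ≫ (𝟙 A ^ n) := by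
      rw [GrpObj.comp_zpow, GrpObj.comp_zpow, Category.comp_id, Category.comp_id, one_zpow, hdn]
    exact congrArg Over.Hom.left h
  rw [hone] at hd1
  have hd2 : Spec.map (CommRingCat.ofHom (Ideal.Quotient.mk (m ^ 2))) =
      Spec.map (ψ ≫ σ ≫ CommRingCat.ofHom (Ideal.Quotient.mk (m ^ 2))) :=
    (cancel_mono hV.fromSpec).1 hd1
  have hm : m = m ^ 2 := by
    refine le_antisymm (fun a ha => ?_) (Ideal.pow_le_self two_ne_zero)
    have := congrArg (fun k : Γ(A.left, V) ⟶ _ => k.hom a) (Spec.map_inj.mp hd2)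
    have ha' : ψ.hom a = 0 := ha
    simp [ha'] at this
    exact Ideal.Quotient.eq_zero_iff_mem.mp this
  have hbot : m = ⊥ := by
    obtain ⟨x, hx, hmx⟩ := (Ideal.isIdempotentElem_iff_of_fg m (IsNoetherian.noetherian m)).mp
      (show m * m = m by rw [← pow_two, ← hm])
    rcases IsIdempotentElem.iff_eq_zero_or_one.mp hx with rfl | rfl
    · simpa using hmx
    · exact absurd (hmx.trans (by simp)) (RingHom.ker_ne_top ψ.hom)
  have hbij : Function.Bijective ψ.hom :=
    ⟨(RingHom.injective_iff_ker_eq_bot _).2 hbot, fun k => ⟨σ.hom k, hψs k⟩⟩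
  haveI : IsIso ψ := (ConcreteCategory.isIso_iff_bijective ψ).2 hbij
  have hVs : (V : Set A.left) = {e0} := by
    rw [← hV.range_fromSpec]
    ext y
    constructor
    · rintro ⟨w, rfl⟩
      obtain ⟨z, rfl⟩ := (Spec.map ψ).surjective w
      rw [← Scheme.Hom.comp_apply, hψe, Subsingleton.elim z (IsLocalRing.closedPoint K)]
      rfl
    · rintro rfl
      exact heR ⟨_, rfl⟩
  haveI : IsClosedImmersion e := by
    have h : e ≫ A.hom = 𝟙 _ := Over.w η[A]
    haveI : IsClosedImmersion (e ≫ A.hom) := by rw [h]; infer_instance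
    exact IsClosedImmersion.of_comp e A.hom
  have hclosed : IsClosed ({e0} : Set A.left) := by
    have := (e.isClosedEmbedding).isClosed_range
    rwa [Set.range_unique, Subsingleton.elim (default : Spec (CommRingCat.of K)) (IsLocalRing.closedPoint K)] at this
  have hsub : Subsingleton A.left := by
    have hd := (V.isOpen.dense ⟨e0, heV⟩).closure_eq
    rw [hVs, hclosed.closure_eq] at hd
    exact ⟨fun a b => by
      have ha : a ∈ ({e0} : Set A.left) := hd ▸ trivial
      have hb : b ∈ ({e0} : Set A.left) := hd ▸ trivial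
      exact ha.trans hb.symm⟩
  haveI : Nonempty A.left := ⟨e0⟩
  haveI : Nonempty (IrreducibleCloseds A.left) :=
    ⟨⟨closure {e0}, isIrreducible_singleton.closure, isClosed_closure⟩⟩
  exact le_antisymm (topologicalKrullDim_zero_of_discreteTopology _) Order.krullDim_nonneg

end AbSchLib
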